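import Cfsg.Agent.FourFixed.Twist
import Cfsg.Agent.Char.Glauberman.Statement
import Cfsg.Agent.Char.Glauberman.Above
import Cfsg.Agent.Char.Linear
import Cfsg.Agent.Coprime.Action

/-!
# Fixed points of a coprime four-group

Let an abelian 2-group `A` act on a group `Y` of odd order with `[Y, A] = Y` and let `t₁, t₂ ∈ A`
act as involutions or trivially.  An irreducible character of `C_Y(A)` that is trivial on the
intersections with `[C_Y(tᵢ), A]`, `tᵢ = t₁, t₂, t₁ t₂`, is trivial.  No solvability of `Y` is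
needed: the proof uses the Glauberman correspondence and a class sum computation.
-/

set_option autoImplicit false

namespace Cfsg.Agent.FourFixed

open Module LinearMap Cfsg.Agent.Char.Glauberman
open scoped ComplexConjugate

universe u v

variable {Y : Type u} [Group Y] [Fintype Y] {A : Type v} [Group A] [Finite A]
  {a : A →* MulAut Y}

omit [Fintype Y] [Finite A] in
theorem apply_mem_fix (hcomm : ∀ s t : A, s * t = t * s) (t : A) :
    ∀ (s : A), ∀ y ∈ fix (a t), a s y ∈ fix (a t) := fun s y hy => by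
  rw [mem_fix] at hy ⊢
  rw [← MulAut.mul_apply, ← map_mul, hcomm, map_mul, MulAut.mul_apply, hy]

/-- The operators on the fixed points of one of them. -/
def actFix (hcomm : ∀ s t : A, s * t = t * s) (a : A →* MulAut Y) (t : A) :
    A →* MulAut (fix (a t)) :=
  restrictOp a (fix (a t)) (apply_mem_fix hcomm t)

omit [Finite A] in
/-- Two intertwiners of one automorphism differ by a scalar. -/
theorem exists_smul_of_intertwine {n : ℕ} {ρ : Representation ℂ Y (Fin n → ℂ)}
    (hρ : ρ.IsIrreducible) {e : MulAut Y} (he : ∀ y, e (e y) = y)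
    {T S : Module.End ℂ (Fin n → ℂ)} (hTT : T * T = 1) (hT : ∀ y, T * ρ y = ρ (e y) * T)
    (hS : ∀ y, S * ρ y = ρ (e y) * S) : ∃ κ : ℂ, S = κ • T := by
  obtain ⟨κ, hκ, -⟩ := Char.commute_eq_scalar ρ hρ (T * S) fun y => by
    rw [mul_assoc, hS, ← mul_assoc, hT, he, mul_assoc]
  refine ⟨κ, ?_⟩
  calc S = (T * T) * S := by rw [hTT, one_mul]
    _ = T * (T * S) := mul_assoc _ _ _
    _ = κ • T := by
      rw [hκ, show (LinearMap.id : Module.End ℂ (Fin n → ℂ)) = 1 from rfl, mul_smul_comm, mul_one]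

omit [Fintype Y] in
/-- The twisted trace of an intertwiner of an invariant character. -/
theorem exists_value (hY : Odd (Nat.card Y)) [Finite Y] (hA : IsPGroup 2 A)
    (hcomm : ∀ s t : A, s * t = t * s) (t : A) (ht : ∀ y, a t (a t y) = y)
    [Fintype (Fixed a)] {n : ℕ} {ρ : Representation ℂ Y (Fin n → ℂ)} (hρ : ρ.IsIrreducible)
    (hinv : InvFun a ρ.character) (μ : IrrCharacter (Fixed a))
    (hm : ∃ m : ℕ, Odd m ∧
      classInner (fun c : Fixed a => ρ.character c) (μ : Fixed a → ℂ) = m)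
    (hμ : ∀ (c : Fixed a) (hc : (c : Y) ∈ fix (a t)),
      (⟨c, hc⟩ : fix (a t)) ∈ Coprime.actCommutator (actFix hcomm a t) →
        (μ : Fixed a → ℂ) c = (μ : Fixed a → ℂ) 1) :
    ∃ T : Module.End ℂ (Fin n → ℂ), T * T = 1 ∧ (∀ y, T * ρ y = ρ (a t y) * T) ∧
      (∃ ε : ℂ, ‖ε‖ = 1 ∧ tw ρ T 1 = ε * (μ : Fixed a → ℂ) 1) ∧
      ∀ c, a t c = c → ∀ s, a s c = c⁻¹ → tw ρ T c = tw ρ T 1 := by
  classical
  have := Fintype.ofFinite Y
  have : Fact (Nat.Prime 2) := ⟨Nat.prime_two⟩
  set e := a t with he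
  obtain ⟨T, hTT, hT⟩ := exists_intertwiner ρ hρ e ht (fun y => hinv t y)
  refine ⟨T, hTT, hT, ?_⟩
  have hint := hT
  set b := actFix hcomm a t with hb
  have := Fintype.ofFinite (fix e)
  have := Fintype.ofFinite (Fixed b)
  -- the twisted trace is plus or minus an irreducible character
  obtain ⟨ν, hν⟩ := Char.IsGen.eq_pm_irr (isGeneralized_tw hT hTT) (norm_tw hT hY ht hρ hTT)
  obtain ⟨δ, hδ, hval⟩ : ∃ δ : ℤ, (δ = 1 ∨ δ = -1) ∧
      ∀ c : fix e, tw ρ T c = (δ : ℂ) * (ν : fix e → ℂ) c := by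
    rcases hν with h | h
    · exact ⟨1, Or.inl rfl, fun c => by simpa using congrFun h c⟩
    · exact ⟨-1, Or.inr rfl, fun c => by simpa using congrFun h c⟩
  have hδ0 : (δ : ℂ) ≠ 0 := by rcases hδ with rfl | rfl <;> norm_num
  -- it is invariant
  have hνinv : InvFun b (ν : fix e → ℂ) := by
    intro s
    obtain ⟨u, hu⟩ := ProjExt.exists_intertwining_unit ρ (ρ.comp (a s).toMonoidHom) hρ
      (funext (hinv s))
    have hu' : ∀ y, (u : Module.End ℂ (Fin n → ℂ)) * ρ y = ρ (a s y) * u := hu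
    have hui : ∀ y, (↑u⁻¹ : Module.End ℂ (Fin n → ℂ)) * ρ (a s y) = ρ y * ↑u⁻¹ := fun y => by
      rw [Units.inv_mul_eq_iff_eq_mul, ← mul_assoc, hu', Units.mul_inv_cancel_right]
    obtain ⟨κ, hκ⟩ := exists_smul_of_intertwine hρ ht hTT hT
      (S := ↑u⁻¹ * T * ↑u) fun y => by
        have hc : e (a s y) = a s (e y) := by
          rw [he, ← MulAut.mul_apply, ← map_mul, hcomm, map_mul, MulAut.mul_apply]
        rw [mul_assoc, hu', ← mul_assoc, mul_assoc _ T, hT, ← mul_assoc, hc, hui]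
        simp only [mul_assoc]
    have hkey : ∀ c : fix e, (ν : fix e → ℂ) (b s c) = κ * (ν : fix e → ℂ) c := fun c => by
      have h1 : tw ρ T (b s c : fix e) = κ * tw ρ T c := by
        show LinearMap.trace ℂ _ (ρ (a s c) * T) = _
        rw [show ρ (a s c) = (u : Module.End ℂ (Fin n → ℂ)) * ρ c * ↑u⁻¹ by
          rw [hu', Units.mul_inv_cancel_right], mul_assoc, LinearMap.trace_mul_comm,
          mul_assoc, LinearMap.trace_mul_comm, ← mul_assoc, LinearMap.trace_mul_comm,
          ← mul_assoc, ← mul_assoc, hκ, smul_mul_assoc, map_smul, smul_eq_mul,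
          LinearMap.trace_mul_comm]
        rfl
      rw [hval, hval, mul_left_comm] at h1
      exact mul_left_cancel₀ hδ0 h1
    have h1 := hkey 1
    rw [map_one] at h1
    have hκ1 : κ = 1 := by
      have := mul_right_cancel₀ (Char.IsIrr.one_ne_zero ν.2)
        (h1.symm.trans (one_mul _).symm)
      exact this
    intro c
    rw [hkey, hκ1, one_mul]
  -- the correspondent
  let ι : Fixed b ≃* Fixed a :=
    { toFun := fun c => ⟨((c : fix e) : Y), fun s => congrArg Subtype.val (c.2 s)⟩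
      invFun := fun c => ⟨⟨c, c.2 t⟩, fun s => Subtype.ext (c.2 s)⟩
      left_inv := fun _ => rfl
      right_inv := fun _ => rfl
      map_mul' := fun _ _ => rfl }
  let μb : IrrCharacter (Fixed b) := irrEquiv ι μ
  have hμb : ∀ c : Fixed b, (μb : Fixed b → ℂ) c = (μ : Fixed a → ℂ) (ι c) := fun c => rfl
  have hcard : ¬ 2 ∣ Nat.card (fix e) := fun h =>
    Nat.not_even_iff_odd.2 (hY.of_dvd_nat (Subgroup.card_subgroup_dvd_card _))
      (even_iff_two_dvd.2 h)
  have hvec : vec (p := 2) b ν μb ≠ 0 := by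
    obtain ⟨m, hmo, hm⟩ := hm
    obtain ⟨ψ, hψ, hψe⟩ := exists_plus hT hTT
    obtain ⟨k, hk⟩ := Char.classInner_isCharacter_eq_natCast
      (Char.isCharacter_res (Fixed b) hψ) (Char.IsIrr.isCharacter μb.2)
    have hmν := mult_spec (Fixed b) ν μb
    have hχ : classInner (fun c : Fixed b => ρ.character ((c : fix e) : Y)) (μb : Fixed b → ℂ) =
        (m : ℂ) := by
      rw [← hm]
      simp only [classInner, Nat.card_congr ι.toEquiv]
      congr 1
      exact Fintype.sum_equiv ι.toEquiv _ _ fun c => rfl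
    have hfun : ((δ : ℂ) • (fun c : Fixed b => (ν : fix e → ℂ) c)) +
        (fun c : Fixed b => ρ.character ((c : fix e) : Y)) =
        (2 : ℂ) • (fun c : Fixed b => ψ c) := by
      funext c
      simp only [Pi.add_apply, Pi.smul_apply, smul_eq_mul, ← hval]
      exact hψe _
    have h1 := congrArg (fun f => classInner f (μb : Fixed b → ℂ)) hfun
    simp only [Char.classInner_add_left, Char.classInner_smul_left, hmν, hχ, hk] at h1
    have h2 : δ * (mult (Fixed b) ν μb : ℤ) + m = 2 * k := by exact_mod_cast h1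
    rw [vec, Ne, ZMod.natCast_eq_zero_iff]
    intro hdiv
    obtain ⟨r, hr⟩ := hdiv
    obtain ⟨q, hq⟩ := hmo
    rw [hr, hq] at h2
    rcases hδ with rfl | rfl <;> omega
  -- the extension of `μ`
  have hcop : (Nat.card A).Coprime (Nat.card (fix e)) := by
    obtain ⟨r, hr⟩ := IsPGroup.iff_card.1 hA
    rw [hr]
    exact Nat.Coprime.pow_left r ((Nat.Prime.coprime_iff_not_dvd Nat.prime_two).2 hcard)
  have : Group.IsNilpotent A := hA.isNilpotent
  have := Coprime.actCommutator_normal b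
  set N := Coprime.actCommutator b with hN
  have hsup := Coprime.actCommutator_sup_fixed b hcop (Or.inl inferInstance)
  let φ : Fixed b →* fix e ⧸ N := (QuotientGroup.mk' N).comp (Fixed b).subtype
  have hφ : Function.Surjective φ := fun q => by
    obtain ⟨y, rfl⟩ := QuotientGroup.mk'_surjective N q
    obtain ⟨x, hx, c, hc, rfl⟩ := Subgroup.mem_sup_of_normal_left.1
      (hsup ▸ Subgroup.mem_top y : y ∈ Coprime.actCommutator b ⊔ Coprime.fixedSubgroup b)
    refine ⟨⟨c, hc⟩, ?_⟩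
    show QuotientGroup.mk' N c = QuotientGroup.mk' N (x * c)
    rw [map_mul, show QuotientGroup.mk' N x = 1 from (QuotientGroup.eq_one_iff x).2 hx, one_mul]
  have hker : ∀ c ∈ φ.ker, (μb : Fixed b → ℂ) c = (μb : Fixed b → ℂ) 1 := fun c hc => by
    rw [hμb, hμb, map_one]
    exact hμ (ι c) (c : fix e).2 ((QuotientGroup.eq_one_iff _).1 hc)
  obtain ⟨μq, hμq, hμqv⟩ := Char.IsIrr.exists_quotient φ.ker μb.2 hker
  let E := QuotientGroup.quotientKerEquivOfSurjective φ hφ
  let νh : IrrCharacter (fix e) :=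
    ⟨fun y => μq (E.symm (QuotientGroup.mk' N y)),
      Char.isIrrCharacter_comp (E.symm.toMonoidHom.comp (QuotientGroup.mk' N))
        (E.symm.surjective.comp (QuotientGroup.mk'_surjective N)) hμq⟩
  have hνh : ∀ c : Fixed b, (νh : fix e → ℂ) c = (μb : Fixed b → ℂ) c := fun c => by
    show μq (E.symm (φ c)) = _
    rw [show φ c = E (QuotientGroup.mk c) from rfl, MulEquiv.symm_apply_apply, ← hμqv]
  have hνhinv : InvFun b (νh : fix e → ℂ) := fun s y => by
    show μq (E.symm (QuotientGroup.mk' N (b s y))) = μq (E.symm (QuotientGroup.mk' N y))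
    rw [show QuotientGroup.mk' N (b s y) = QuotientGroup.mk' N y from
      (QuotientGroup.eq.2 (Subgroup.subset_closure (show y⁻¹ * b s y ∈
        {z : fix e | ∃ (r : A) (g : fix e), z = g⁻¹ * b r g} from ⟨s, y, rfl⟩))).symm]
  have hvech : vec (p := 2) b νh μb ≠ 0 := by
    have h1 := mult_spec (Fixed b) νh μb
    simp only [hνh] at h1
    rw [Char.classInner_irr_self μb.2] at h1
    rw [vec, show mult (Fixed b) νh μb = 1 by exact_mod_cast h1.symm]
    simp
  have heq : ν = νh := eq_of_vec_ne_zero hA hcard hνinv hνhinv hvec hvech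
  subst heq
  have hone : (νh : fix e → ℂ) 1 = (μ : Fixed a → ℂ) 1 := by
    have h := hνh 1
    rw [hμb, map_one] at h
    simpa using h
  refine ⟨⟨(δ : ℂ), by rcases hδ with rfl | rfl <;> simp, ?_⟩, fun c hc s hs => ?_⟩
  · rw [show (1 : Y) = ((1 : fix e) : Y) from rfl, hval, hone]
  · let c' : fix e := ⟨c, hc⟩
    have h2 : c'⁻¹ * c'⁻¹ ∈ N := by
      have h := Subgroup.subset_closure (show c'⁻¹ * b s c' ∈
        {y : fix e | ∃ (r : A) (g : fix e), y = g⁻¹ * b r g} from ⟨s, c', rfl⟩)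
      rwa [show b s c' = c'⁻¹ from Subtype.ext hs] at h
    have hc2 : c' ∈ N := by
      obtain ⟨r, hr⟩ := (hY.of_dvd_nat (Subgroup.card_subgroup_dvd_card (fix e)))
      have h3 := N.inv_mem (N.pow_mem h2 (r + 1))
      rwa [← pow_two, ← pow_mul, show 2 * (r + 1) = Nat.card (fix e) + 1 by omega, pow_succ,
        pow_card_eq_one', one_mul, inv_inv] at h3
    rw [show c = ((c' : fix e) : Y) from rfl, show (1 : Y) = ((1 : fix e) : Y) from rfl, hval, hval]
    congr 1
    show μq (E.symm (QuotientGroup.mk' N c')) = μq (E.symm (QuotientGroup.mk' N 1))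
    rw [map_one (QuotientGroup.mk' N),
      show QuotientGroup.mk' N c' = 1 from (QuotientGroup.eq_one_iff _).2 hc2]

/-- The characters of the fixed points trivial on the three `[C(tᵢ), A]` are trivial. -/
theorem eq_one (hY : Odd (Nat.card Y)) (hA : IsPGroup 2 A) (hcomm : ∀ s t : A, s * t = t * s)
    (hgen : Coprime.actCommutator a = ⊤) (t₁ t₂ : A)
    (h₁ : ∀ y, a t₁ (a t₁ y) = y) (h₂ : ∀ y, a t₂ (a t₂ y) = y)
    [Fintype (Fixed a)] (μ : IrrCharacter (Fixed a))
    (hμ : ∀ t ∈ ({t₁, t₂, t₁ * t₂} : Set A), ∀ (c : Fixed a) (hc : (c : Y) ∈ fix (a t)),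
      (⟨c, hc⟩ : fix (a t)) ∈ Coprime.actCommutator (actFix hcomm a t) →
        (μ : Fixed a → ℂ) c = (μ : Fixed a → ℂ) 1) (c : Fixed a) :
    (μ : Fixed a → ℂ) c = 1 := by
  classical
  have : Fact (Nat.Prime 2) := ⟨Nat.prime_two⟩
  have hcop : ¬ 2 ∣ Nat.card Y := fun h => Nat.not_even_iff_odd.2 hY (even_iff_two_dvd.2 h)
  obtain ⟨χ, hχinv, hvec⟩ := exists_vec_ne_zero (a := a) hA hcop μ
  obtain ⟨n, ρ, hρ, hρχ⟩ := χ.2
  have hχρ : (χ : Y → ℂ) = ρ.character := hρχ.symm
  have hinv : InvFun a ρ.character := by rw [← hχρ]; exact hχinv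
  have hm : ∃ m : ℕ, Odd m ∧
      classInner (fun c : Fixed a => ρ.character c) (μ : Fixed a → ℂ) = m := by
    refine ⟨mult (Fixed a) χ μ, ?_, by rw [← hχρ]; exact mult_spec _ _ _⟩
    rw [vec, Ne, ZMod.natCast_eq_zero_iff] at hvec
    exact Nat.odd_iff.2 (Nat.two_dvd_ne_zero.1 hvec)
  set t₃ := t₁ * t₂ with ht₃
  have h₃ : ∀ y, a t₃ (a t₃ y) = y := fun y => by
    rw [← MulAut.mul_apply, ← map_mul, show t₃ * t₃ = t₁ * t₁ * (t₂ * t₂) by
      rw [ht₃, mul_assoc, ← mul_assoc t₂, hcomm t₂ t₁, mul_assoc, ← mul_assoc t₁], map_mul,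
      map_mul, map_mul, MulAut.mul_apply, MulAut.mul_apply, MulAut.mul_apply, h₁, h₂]
  obtain ⟨T₁, hTT₁, hT₁, ⟨ε₁, hε₁, hv₁⟩, -⟩ :=
    exists_value hY hA hcomm t₁ h₁ hρ hinv μ hm (hμ t₁ (by simp))
  obtain ⟨T₂, hTT₂, hT₂, ⟨ε₂, hε₂, hv₂⟩, -⟩ :=
    exists_value hY hA hcomm t₂ h₂ hρ hinv μ hm (hμ t₂ (by simp))
  obtain ⟨T₃, hTT₃, hT₃, ⟨ε₃, hε₃, hv₃⟩, hk₃⟩ :=
    exists_value hY hA hcomm t₃ h₃ hρ hinv μ hm (hμ t₃ (by simp))
  have hc12 : ∀ y, a t₁ (a t₂ y) = a t₃ y := fun y => by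
    rw [ht₃, map_mul, MulAut.mul_apply]
  have hc21 : ∀ y, a t₂ (a t₁ y) = a t₃ y := fun y => by
    rw [← MulAut.mul_apply, ← map_mul, hcomm, ← ht₃]
  obtain ⟨κ, hκ⟩ := exists_smul_of_intertwine hρ h₃ hTT₃ hT₃ (S := T₁ * T₂) fun y => by
    rw [mul_assoc, hT₂, ← mul_assoc, hT₁, hc12, mul_assoc]
  obtain ⟨κ', hκ'⟩ := exists_smul_of_intertwine hρ h₂ hTT₂ hT₂ (S := T₁ * T₂ * T₁) fun y => by
    rw [mul_assoc, hT₁, ← mul_assoc, mul_assoc T₁, hT₂, ← mul_assoc, hT₁, hc21, ← hc12, h₁,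
      mul_assoc, mul_assoc, ← mul_assoc T₁]
  have hn : (n : ℂ) ≠ 0 := by
    have := (Char.isIrreducible_iff.1 hρ).1
    rw [Nat.cast_ne_zero]
    rintro rfl
    exact not_subsingleton (Fin 0 → ℂ) inferInstance
  have hdiag : ∀ z : ℂ, z • (1 : Module.End ℂ (Fin n → ℂ)) = 1 → z = 1 := fun z hz => by
    have h := congrArg (LinearMap.trace ℂ (Fin n → ℂ)) hz
    rw [map_smul, LinearMap.trace_one, Module.finrank_fin_fun, smul_eq_mul] at h
    exact mul_right_cancel₀ hn (h.trans (one_mul _).symm)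
  have hκn : ‖κ‖ = 1 := by
    have hκ'2 : κ' * κ' = 1 := hdiag _ (by
      calc (κ' * κ') • (1 : Module.End ℂ (Fin n → ℂ)) = (κ' • T₂) * (κ' • T₂) := by
            rw [smul_mul_smul_comm, hTT₂]
        _ = (T₁ * T₂ * T₁) * (T₁ * T₂ * T₁) := by rw [hκ']
        _ = T₁ * T₂ * (T₁ * T₁) * T₂ * T₁ := by simp only [mul_assoc]
        _ = T₁ * (T₂ * T₂) * T₁ := by rw [hTT₁, mul_one, mul_assoc T₁ T₂ T₂]
        _ = 1 := by rw [hTT₂, mul_one, hTT₁])
    have h4 : κ * κ = κ' := by
      have h : (κ * κ) • (1 : Module.End ℂ (Fin n → ℂ)) = κ' • 1 := by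
        calc (κ * κ) • (1 : Module.End ℂ (Fin n → ℂ)) = (κ • T₃) * (κ • T₃) := by
              rw [smul_mul_smul_comm, hTT₃]
          _ = T₁ * T₂ * T₁ * T₂ := by rw [← hκ]; simp only [mul_assoc]
          _ = κ' • 1 := by rw [hκ', smul_mul_assoc, hTT₂]
      have := congrArg (LinearMap.trace ℂ (Fin n → ℂ)) h
      rw [map_smul, map_smul, LinearMap.trace_one, Module.finrank_fin_fun, smul_eq_mul,
        smul_eq_mul] at this
      exact mul_right_cancel₀ hn this
    refine Complex.norm_eq_one_of_pow_eq_one (n := 4) ?_ (by norm_num)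
    rw [show κ ^ 4 = (κ * κ) * (κ * κ) by ring, h4, hκ'2]
  -- the class sum computation
  have hterm : ∀ y : Y, LinearMap.trace ℂ (Fin n → ℂ) (ρ y * T₁ * ρ y⁻¹ * T₂) =
      κ * tw ρ T₃ 1 := fun y => by
    rw [mul_assoc (ρ y), hT₁, ← mul_assoc, ← map_mul ρ, mul_assoc, hκ, mul_smul_comm, map_smul,
      smul_eq_mul]
    congr 1
    set z := y * a t₁ y⁻¹ with hz
    have hz1 : a t₁ z = z⁻¹ := by
      rw [hz, map_inv, map_mul, map_inv, h₁, mul_inv_rev, inv_inv]
    obtain ⟨x, d, hd, hzd, hinvd⟩ := exists_twist hY (a t₃) h₃ z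
    have hd1 := hinvd (a t₁) (h₁ z) hz1 fun w => by
      rw [← MulAut.mul_apply, ← map_mul, hcomm, map_mul, MulAut.mul_apply]
    show tw ρ T₃ z = _
    rw [hzd, tw_twist hT₃, hk₃ d hd t₁ hd1]
  have hS := sum_conj_trace ρ hρ T₁ T₂
  have htr : ∀ T : Module.End ℂ (Fin n → ℂ), LinearMap.trace ℂ (Fin n → ℂ) T = tw ρ T 1 :=
    fun T => by rw [tw, map_one ρ, one_mul]
  simp only [hterm, Finset.sum_const, Finset.card_univ, nsmul_eq_mul,
    ← Nat.card_eq_fintype_card, htr, hv₁, hv₂, hv₃] at hS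
  obtain ⟨d, hd0, hd⟩ := Char.IsIrr.degree μ.2
  rw [hd] at hS
  have hnd : n = d := by
    have h := congrArg norm hS
    simp only [norm_mul, Complex.norm_natCast, hε₁, hε₂, hε₃, hκn, mul_one, one_mul] at h
    have hY0 : (0 : ℝ) < Nat.card Y := by exact_mod_cast Nat.card_pos
    have hd' : (0 : ℝ) < d := by exact_mod_cast hd0
    have h' : (n : ℝ) * ((Nat.card Y : ℝ) * d) = (d : ℝ) * ((Nat.card Y : ℝ) * d) := by
      linear_combination h
    exact_mod_cast mul_right_cancel₀ (mul_pos hY0 hd').ne' h'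
  -- hence the restriction is `μ`
  have hres : ∀ c : Fixed a, ρ.character c = (μ : Fixed a → ℂ) c := by
    obtain ⟨m, hmo, hm'⟩ := hm
    have hmult : mult (Fixed a) χ μ = m := by
      have h := mult_spec (Fixed a) χ μ
      rw [hχρ, hm'] at h
      exact_mod_cast h.symm
    have hall : ∀ η : IrrCharacter (Fixed a), mult (Fixed a) χ η = if η = μ then 1 else 0 := by
      have h1 := res_eq_sum (Fixed a) χ 1
      choose dg hdg0 hdg using fun η : IrrCharacter (Fixed a) => Char.IsIrr.degree η.2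
      simp only [hdg, Subgroup.coe_one, hχρ, ρ.char_one, Module.finrank_fin_fun,
        ← Nat.cast_mul, ← Nat.cast_sum, Nat.cast_inj] at h1
      have hdμ : dg μ = d := by exact_mod_cast (hdg μ).symm.trans hd
      rw [← Finset.add_sum_erase _ _ (Finset.mem_univ μ), hdμ, hnd, hmult] at h1
      have hm1 : m = 1 := by
        have : 0 < m := hmo.pos
        by_contra hne
        have : 2 * d ≤ m * d := Nat.mul_le_mul_right d (by omega)
        omega
      have h0 : ∑ η ∈ Finset.univ.erase μ, mult (Fixed a) χ η * dg η = 0 := by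
        rw [hm1] at h1; omega
      intro η
      split_ifs with h
      · rw [h, hmult, hm1]
      · exact (Nat.mul_eq_zero.1 ((Finset.sum_eq_zero_iff.1 h0) η
          (Finset.mem_erase.2 ⟨h, Finset.mem_univ η⟩))).resolve_right (hdg0 η).ne'
    intro c
    rw [← hχρ, res_eq_sum (Fixed a) χ c, Finset.sum_eq_single μ]
    · rw [hall, if_pos rfl, Nat.cast_one, one_mul]
    · intro η _ h
      rw [hall, if_neg h, Nat.cast_zero, zero_mul]
    · exact fun h => absurd (Finset.mem_univ μ) h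
  -- every operator centralises the image of `ρ`
  let σ : Representation ℂ (Fixed a) (Fin n → ℂ) := ρ.comp (Fixed a).subtype
  have hσc : σ.character = (μ : Fixed a → ℂ) := funext fun c => hres c
  have hσ1 : finrank ℂ (Representation.IntertwiningMap σ σ) = 1 := by
    have h := Char.classInner_character_eq_finrank σ σ
    rw [hσc, Char.classInner_irr_self μ.2] at h
    exact_mod_cast h.symm
  have hfixρ : ∀ (s : A) (y : Y), ρ (a s y) = ρ y := by
    intro s y
    obtain ⟨u, hu⟩ := ProjExt.exists_intertwining_unit ρ (ρ.comp (a s).toMonoidHom) hρ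
      (funext (hinv s))
    let U : Representation.IntertwiningMap σ σ := ⟨(u : Module.End ℂ (Fin n → ℂ)), fun c => by
      have h := hu (c : Y)
      rw [show (ρ.comp (a s).toMonoidHom) (c : Y) = ρ (a s c) from rfl, c.2 s] at h
      exact h⟩
    let I : Representation.IntertwiningMap σ σ :=
      ⟨(LinearMap.id : (Fin n → ℂ) →ₗ[ℂ] (Fin n → ℂ)), fun c => rfl⟩
    have hI : I ≠ 0 := by
      intro h
      have := congrArg Representation.IntertwiningMap.toLinearMap h
      have h2 : (1 : ℂ) • (1 : Module.End ℂ (Fin n → ℂ)) = (0 : ℂ) • 1 := by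
        rw [one_smul, zero_smul]
        exact this
      have h3 := congrArg (LinearMap.trace ℂ (Fin n → ℂ)) h2
      rw [map_smul, map_smul, LinearMap.trace_one, Module.finrank_fin_fun, smul_eq_mul,
        smul_eq_mul, one_mul, zero_mul] at h3
      exact hn h3
    obtain ⟨r, hr⟩ := exists_smul_eq_of_finrank_eq_one hσ1 hI U
    have hur : (u : Module.End ℂ (Fin n → ℂ)) = r • 1 :=
      (congrArg Representation.IntertwiningMap.toLinearMap hr).symm
    have hr0 : r ≠ 0 := fun h => by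
      rw [h, zero_smul] at hur
      have : Nontrivial (Fin n → ℂ) := (Char.isIrreducible_iff.1 hρ).1
      exact u.ne_zero hur
    have h := hu y
    rw [hur, smul_mul_assoc, one_mul, mul_smul_comm, mul_one] at h
    exact (smul_right_injective _ hr0 h).symm
  have htriv : ∀ y : Y, ρ y = 1 := by
    intro y
    have hle : Coprime.actCommutator a ≤ (MonoidHom.ker ρ.toHomUnits) := by
      rw [Coprime.actCommutator, Subgroup.closure_le]
      rintro _ ⟨s, g, rfl⟩
      refine MonoidHom.mem_ker.2 (Units.ext ?_)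
      show ρ (g⁻¹ * a s g) = 1
      rw [map_mul, hfixρ, ← map_mul, inv_mul_cancel, map_one]
    exact congrArg Units.val (MonoidHom.mem_ker.1 (hle (hgen ▸ Subgroup.mem_top y)))
  have hχ1 : ∀ y : Y, (χ : Y → ℂ) y = (n : ℂ) := fun y => by
    rw [hχρ, Representation.character, htriv, LinearMap.trace_one, Module.finrank_fin_fun]
  have hn1 : (n : ℂ) = 1 := by
    have h := Char.classInner_irr_self χ.2
    simp only [classInner, hχ1, Complex.conj_natCast, Finset.sum_const, Finset.card_univ,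
      nsmul_eq_mul, ← Nat.card_eq_fintype_card] at h
    rw [← mul_assoc, inv_mul_cancel₀ (Nat.cast_ne_zero.2 Nat.card_pos.ne'), one_mul,
      ← Nat.cast_mul, Nat.cast_eq_one, mul_eq_one] at h
    rw [h.1, Nat.cast_one]
  rw [← hres c, ← hχρ, hχ1, hn1]

end Cfsg.Agent.FourFixed
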