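import Cfsg.Agent.Char.Gen
import Cfsg.Agent.Char.ClassAlg
import Cfsg.Agent.Char.Glauberman.Basic
import Cfsg.Agent.ProjExt.Data
import Mathlib.LinearAlgebra.PID

/-!
# Twisted traces for an involutory automorphism of a group of odd order

For an irreducible representation `ρ` and an intertwiner `T` of an automorphism `e` with `e ∘ e = 1`
the function `y ↦ tr (ρ y T)` is, on the fixed points of `e`, plus or minus an irreducible
character.
-/

set_option autoImplicit false

namespace Cfsg.Agent.FourFixed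

open Module LinearMap
open scoped ComplexConjugate

universe u

variable {Y : Type u} [Group Y]

section Odd

variable [Finite Y] (hodd : Odd (Nat.card Y))

set_option linter.unusedSectionVars false

include hodd

theorem exists_sqrt (w : Y) : ∃ d : Y, d * d = w ∧ ∀ x : Y, x * w = w * x → x * d = d * x := by
  obtain ⟨m, hm⟩ := hodd.of_dvd_nat (orderOf_dvd_natCard w)
  refine ⟨w ^ (m + 1), ?_, fun x hx => ((show Commute x w from hx).pow_right _).eq⟩
  rw [← pow_add, show m + 1 + (m + 1) = orderOf w + 1 by omega, pow_succ, pow_orderOf_eq_one,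
    one_mul]

theorem eq_of_sq_eq {a b : Y} (h : a * a = b * b) : a = b := by
  obtain ⟨n, hn⟩ := hodd
  have hp : ∀ x : Y, x = (x * x) ^ (n + 1) := fun x => by
    rw [← pow_two, ← pow_mul, show 2 * (n + 1) = Nat.card Y + 1 by omega, pow_succ,
      pow_card_eq_one', one_mul]
  rw [hp a, hp b, h]

/-- Every element is twisted conjugate to a fixed point. -/
theorem exists_twist (e : MulAut Y) (he : ∀ y, e (e y) = y) (z : Y) :
    ∃ x c : Y, e c = c ∧ z = x * c * (e x)⁻¹ ∧
      ∀ f : MulAut Y, f (f z) = z → f z = z⁻¹ → (∀ y, f (e y) = e (f y)) → f c = c⁻¹ := by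
  obtain ⟨d, hd, hdc⟩ := exists_sqrt hodd (z * e z)
  have hew : e (z * e z) = z⁻¹ * (z * e z) * z := by rw [map_mul, he]; group
  have hed : e d = z⁻¹ * d * z := by
    refine eq_of_sq_eq hodd ?_
    rw [← map_mul, hd, hew, ← hd]
    group
  obtain ⟨u, hu⟩ : ∃ u, u = d⁻¹ * z := ⟨_, rfl⟩
  have hz : z = d * u := by rw [hu, mul_inv_cancel_left]
  have heu : e u = u⁻¹ := by
    rw [hu, map_mul, map_inv, hed, show e z = z⁻¹ * (z * e z) by group, ← hd]
    group
  obtain ⟨k, hk, hkc⟩ := exists_sqrt hodd u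
  have hek : e k = k⁻¹ := by
    refine eq_of_sq_eq hodd ?_
    rw [← map_mul, hk, heu, ← hk]
    group
  refine ⟨k, k⁻¹ * d * k, ?_, ?_, fun f _ hfz hfe => ?_⟩
  · rw [map_mul, map_mul, map_inv, hek, hed, hz, ← hk]
    group
  · rw [hek, inv_inv, hz, ← hk]
    group
  · have hfw : f (z * e z) = (e (z * e z))⁻¹ := by
      rw [map_mul, hfe, hfz, map_inv, map_mul, he, mul_inv_rev]
    have hfd : f d = (e d)⁻¹ := by
      refine eq_of_sq_eq hodd ?_
      rw [← map_mul, hd, hfw, ← hd, map_mul, mul_inv_rev]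
    have hfu : f u = u⁻¹ := by
      rw [hu, map_mul, map_inv, hfd, hfz, inv_inv, hed]
      group
    have hfk : f k = k⁻¹ := by
      refine eq_of_sq_eq hodd ?_
      rw [← map_mul, hk, hfu, ← hk]
      group
    rw [map_mul, map_mul, map_inv, hfk, hfd, hed, hz, ← hk]
    group

end Odd

/-- The fixed points of an automorphism. -/
abbrev fix (e : MulAut Y) : Subgroup Y := (e.toMonoidHom).eqLocus (MonoidHom.id Y)

theorem mem_fix {e : MulAut Y} {y : Y} : y ∈ fix e ↔ e y = y := Iff.rfl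

/-- Sums of twisted class functions. -/
theorem sum_twisted [Fintype Y] (hodd : Odd (Nat.card Y)) (e : MulAut Y) (he : ∀ y, e (e y) = y)
    [Fintype (fix e)] (h : Y → ℂ) (hinv : ∀ x y, h (x * y * (e x)⁻¹) = h y) :
    (Nat.card (fix e) : ℂ) * ∑ y, h y = (Nat.card Y : ℂ) * ∑ c : fix e, h c := by
  classical
  let Φ : Y × fix e → Y := fun xc => xc.1 * xc.2 * (e xc.1)⁻¹
  have hfib : ∀ z, (Finset.univ.filter fun xc => Φ xc = z).card = Fintype.card (fix e) := by
    intro z
    obtain ⟨x, c, hc, hz, -⟩ := exists_twist hodd e he z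
    rw [← Finset.card_univ]
    let c' : fix e := ⟨c, mem_fix.2 hc⟩
    refine (Finset.card_bij (fun (v : fix e) _ => ((x * (v : Y), v⁻¹ * c' * v) : Y × fix e))
      ?_ ?_ ?_).symm
    · intro v _
      refine Finset.mem_filter.2 ⟨Finset.mem_univ _, ?_⟩
      simp only [Φ, c', Subgroup.coe_mul, Subgroup.coe_inv, map_mul, mem_fix.1 v.2, hz]
      group
    · intro v _ w _ hvw
      exact Subtype.ext (mul_left_cancel (congrArg Prod.fst hvw))
    · rintro ⟨y, d⟩ hyd
      have hyd' : y * (d : Y) * (e y)⁻¹ = x * c * (e x)⁻¹ :=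
        ((Finset.mem_filter.1 hyd).2).trans hz
      obtain ⟨v, rfl⟩ : ∃ v, y = x * v := ⟨x⁻¹ * y, by rw [mul_inv_cancel_left]⟩
      have h1 : v * (d : Y) * (e v)⁻¹ = c := by
        rw [map_mul] at hyd'
        calc v * (d : Y) * (e v)⁻¹
            = x⁻¹ * (x * v * (d : Y) * (e x * e v)⁻¹) * e x := by group
          _ = c := by rw [hyd']; group
      have h2 : e v * (d : Y) * v⁻¹ = c := by
        have h3 := congrArg e h1
        rwa [map_mul, map_mul, map_inv, he, mem_fix.1 d.2, hc] at h3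
      have h4 : v * (d : Y) * v⁻¹ = c := by
        refine eq_of_sq_eq hodd ?_
        conv_rhs => congr
                    · rw [← h1]
                    · rw [← h2]
        group
      have hv : e v = v := inv_injective (mul_left_cancel (h1.trans h4.symm))
      refine ⟨⟨v, mem_fix.2 hv⟩, Finset.mem_univ _, Prod.ext rfl (Subtype.ext ?_)⟩
      simp only [c', Subgroup.coe_mul, Subgroup.coe_inv, ← h4]
      group
  calc (Nat.card (fix e) : ℂ) * ∑ y, h y
      = ∑ z, ∑ xc ∈ Finset.univ.filter (fun xc => Φ xc = z), h (Φ xc) := by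
        rw [Finset.mul_sum]
        refine Finset.sum_congr rfl fun z _ => ?_
        rw [Finset.sum_congr rfl fun xc hxc => by rw [(Finset.mem_filter.1 hxc).2],
          Finset.sum_const, hfib z, nsmul_eq_mul, Nat.card_eq_fintype_card]
    _ = ∑ xc : Y × fix e, h (Φ xc) := Finset.sum_fiberwise Finset.univ Φ _
    _ = ∑ xc : Y × fix e, h xc.2 := Finset.sum_congr rfl fun xc _ => hinv _ _
    _ = _ := by
        simp [Fintype.sum_prod_type, Nat.card_eq_fintype_card]

section Trace

variable {n : ℕ} (ρ : Representation ℂ Y (Fin n → ℂ))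

/-- `tr (ρ y T)` -/
noncomputable def tw (T : Module.End ℂ (Fin n → ℂ)) (y : Y) : ℂ :=
  trace ℂ (Fin n → ℂ) (ρ y * T)

/-- Schur's relation for averaged conjugates. -/
theorem sum_conj_trace [Fintype Y] (hρ : ρ.IsIrreducible) (A B : Module.End ℂ (Fin n → ℂ)) :
    (n : ℂ) * ∑ y : Y, trace ℂ (Fin n → ℂ) (ρ y * A * ρ y⁻¹ * B) =
      (Nat.card Y : ℂ) * trace ℂ (Fin n → ℂ) A * trace ℂ (Fin n → ℂ) B := by
  obtain ⟨c, hc, hc'⟩ := Char.commute_eq_scalar ρ hρ (∑ y : Y, ρ y * A * ρ y⁻¹) fun g => by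
    rw [Finset.sum_mul, Finset.mul_sum]
    refine Fintype.sum_equiv (Equiv.mulLeft g⁻¹) _ _ fun y => ?_
    simp [← map_mul, ← mul_assoc]
    simp [mul_assoc, ← map_mul]
  rw [map_sum, Finset.sum_congr rfl fun y _ => by
      rw [LinearMap.trace_mul_comm, ← mul_assoc, ← map_mul, inv_mul_cancel, map_one, one_mul],
    Finset.sum_const, Finset.card_univ, nsmul_eq_mul, ← Nat.card_eq_fintype_card,
    Module.finrank_fin_fun] at hc'
  rw [← map_sum, ← Finset.sum_mul, hc, smul_mul_assoc,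
    show (LinearMap.id : Module.End ℂ (Fin n → ℂ)) = 1 from rfl, one_mul, map_smul, smul_eq_mul,
    ← mul_assoc, mul_comm (n : ℂ), hc']

/-- The matrix form of the orthogonality relation. -/
theorem matrix_orth {m : ℕ} {ι : Type*} (t : Finset ι) (M N : ι → Matrix (Fin m) (Fin m) ℂ)
    (K : ℂ) (key : ∀ i j k l : Fin m, ∑ y ∈ t, M y l i * N y j k =
      K * ((if i = j then 1 else 0) * (if k = l then 1 else 0)))
    (A B : Matrix (Fin m) (Fin m) ℂ) :
    ∑ y ∈ t, (M y * A).trace * (N y * B).trace = K * (A * B).trace := by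
  calc ∑ y ∈ t, (M y * A).trace * (N y * B).trace
      = ∑ y ∈ t, ∑ l, ∑ i, ∑ j, ∑ k, M y l i * A i l * (N y j k * B k j) := by
        refine Finset.sum_congr rfl fun y _ => ?_
        simp only [Matrix.trace, Matrix.diag, Matrix.mul_apply]
        rw [Finset.sum_mul]
        refine Finset.sum_congr rfl fun l _ => ?_
        rw [Finset.sum_mul]
        refine Finset.sum_congr rfl fun i _ => ?_
        rw [Finset.mul_sum]
        exact Finset.sum_congr rfl fun j _ => Finset.mul_sum _ _ _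
    _ = ∑ l, ∑ i, ∑ j, ∑ k, A i l * B k j * ∑ y ∈ t, M y l i * N y j k := by
        rw [Finset.sum_comm]
        refine Finset.sum_congr rfl fun l _ => ?_
        rw [Finset.sum_comm]
        refine Finset.sum_congr rfl fun i _ => ?_
        rw [Finset.sum_comm]
        refine Finset.sum_congr rfl fun j _ => ?_
        rw [Finset.sum_comm]
        refine Finset.sum_congr rfl fun k _ => ?_
        rw [Finset.mul_sum]
        exact Finset.sum_congr rfl fun y _ => by ring
    _ = ∑ l, ∑ i, K * (A i l * B l i) := by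
        refine Finset.sum_congr rfl fun l _ => Finset.sum_congr rfl fun i _ => ?_
        simp only [key, mul_ite, mul_one, mul_zero]
        simp
        ring
    _ = _ := by
        simp only [Matrix.trace, Matrix.diag, Matrix.mul_apply, Finset.mul_sum]
        exact Finset.sum_comm

/-- Orthogonality for products of twisted traces. -/
theorem sum_trace_mul [Fintype Y] (hρ : ρ.IsIrreducible) (A B : Module.End ℂ (Fin n → ℂ)) :
    (n : ℂ) * ∑ y : Y, trace ℂ (Fin n → ℂ) (ρ y * A) * trace ℂ (Fin n → ℂ) (ρ y⁻¹ * B) =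
      (Nat.card Y : ℂ) * trace ℂ (Fin n → ℂ) (A * B) := by
  classical
  let Φ : Module.End ℂ (Fin n → ℂ) ≃ₐ[ℂ] Matrix (Fin n) (Fin n) ℂ :=
    LinearMap.toMatrixAlgEquiv'
  have htr : ∀ f : Module.End ℂ (Fin n → ℂ), trace ℂ (Fin n → ℂ) f = ∑ i, Φ f i i := fun f => by
    rw [LinearMap.trace_eq_matrix_trace ℂ (Pi.basisFun ℂ (Fin n)), Matrix.trace]
    rfl
  have htwo : ∀ (M N : Matrix (Fin n) (Fin n) ℂ) (i j k l : Fin n),
      Matrix.trace (M * Matrix.single i j 1 * N * Matrix.single k l 1) = M l i * N j k := by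
    intro M N i j k l
    simp [Matrix.trace, Matrix.mul_apply, Matrix.single, ite_and]
  have key : ∀ i j k l : Fin n, (n : ℂ) * ∑ y : Y, Φ (ρ y) l i * Φ (ρ y⁻¹) j k =
      (Nat.card Y : ℂ) * ((if i = j then 1 else 0) * (if k = l then 1 else 0)) := by
    intro i j k l
    have h := sum_conj_trace ρ hρ (Φ.symm (Matrix.single i j 1)) (Φ.symm (Matrix.single k l 1))
    have h1 : ∀ i j : Fin n, trace ℂ (Fin n → ℂ) (Φ.symm (Matrix.single i j 1)) =
        if i = j then 1 else 0 := fun i j => by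
      rw [htr, AlgEquiv.apply_symm_apply]
      simp [Matrix.single, ite_and, eq_comm]
    have h2 : ∀ y : Y, trace ℂ (Fin n → ℂ) (ρ y * Φ.symm (Matrix.single i j 1) * ρ y⁻¹ *
        Φ.symm (Matrix.single k l 1)) = Φ (ρ y) l i * Φ (ρ y⁻¹) j k := fun y => by
      rw [← htwo, htr, map_mul Φ, map_mul Φ, map_mul Φ, AlgEquiv.apply_symm_apply,
        AlgEquiv.apply_symm_apply, Matrix.trace]
      rfl
    simp only [h1, h2] at h
    rw [h, mul_assoc]
  have hn0 : (n : ℂ) ≠ 0 := by
    have := (Char.isIrreducible_iff.1 hρ).1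
    rw [Nat.cast_ne_zero]
    rintro rfl
    exact not_subsingleton (Fin 0 → ℂ) inferInstance
  have htr' : ∀ f : Module.End ℂ (Fin n → ℂ), trace ℂ (Fin n → ℂ) f = (Φ f).trace := htr
  simp only [htr', map_mul Φ]
  rw [matrix_orth Finset.univ (fun y => Φ (ρ y)) (fun y => Φ (ρ y⁻¹))
    ((Nat.card Y : ℂ) / (n : ℂ)) (fun i j k l => ?_) (Φ A) (Φ B), ← mul_assoc,
    mul_div_cancel₀ _ hn0]
  rw [div_mul_eq_mul_div, eq_div_iff hn0, mul_comm _ (n : ℂ), key]

/-- An invariant irreducible character has an involutory intertwiner. -/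
theorem exists_intertwiner [Finite Y] (hρ : ρ.IsIrreducible) (e : MulAut Y)
    (he : ∀ y, e (e y) = y) (hinv : ∀ y, ρ.character (e y) = ρ.character y) :
    ∃ T : Module.End ℂ (Fin n → ℂ), T * T = 1 ∧ ∀ y, T * ρ y = ρ (e y) * T := by
  obtain ⟨u, hu⟩ := ProjExt.exists_intertwining_unit ρ (ρ.comp e.toMonoidHom) hρ (funext hinv)
  obtain ⟨c, hc⟩ := ProjExt.exists_scalarU ρ hρ (u * u) fun y => by
    rw [Units.val_mul, mul_assoc, hu, ← mul_assoc,
      show (ρ.comp e.toMonoidHom) y = ρ (e y) from rfl, hu, mul_assoc]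
    show ρ (e (e y)) * _ = _
    rw [he]
  obtain ⟨g, hg⟩ := IsAlgClosed.exists_pow_nat_eq ((c : ℂ)⁻¹) (Nat.succ_pos 1)
  refine ⟨g • (u : Module.End ℂ (Fin n → ℂ)), ?_, fun y => ?_⟩
  · have h1 := congrArg Units.val hc
    rw [Units.val_mul, ProjExt.scalarU_val, Algebra.algebraMap_eq_smul_one] at h1
    rw [smul_mul_smul_comm, h1, smul_smul, ← pow_two, hg, inv_mul_cancel₀ c.ne_zero, one_smul]
  · rw [smul_mul_assoc, hu, mul_smul_comm]
    rfl

variable {ρ} {e : MulAut Y} {T : Module.End ℂ (Fin n → ℂ)} (hT : ∀ y, T * ρ y = ρ (e y) * T)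

include hT in
theorem tw_twist (x y : Y) : tw ρ T (x * y * (e x)⁻¹) = tw ρ T y := by
  have h1 : ρ (e x)⁻¹ * T = T * ρ x⁻¹ := by rw [hT, map_inv e]
  rw [tw, tw, map_mul ρ, map_mul ρ, mul_assoc (ρ x * ρ y), h1, mul_assoc (ρ x),
    LinearMap.trace_mul_comm, mul_assoc, mul_assoc, ← map_mul ρ, inv_mul_cancel, map_one ρ,
    mul_one]

include hT in
theorem commute_fix (c : fix e) : T * ρ c = ρ c * T := by rw [hT, mem_fix.1 c.2]

include hT in
/-- On the fixed points `tr (ρ c T) + χ c` is twice a character. -/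
theorem exists_plus (hTT : T * T = 1) :
    ∃ ψ : fix e → ℂ, IsCharacter (fix e) ψ ∧ ∀ c : fix e, tw ρ T c + ρ.character c = 2 * ψ c := by
  let P : Module.End ℂ (Fin n → ℂ) := (2⁻¹ : ℂ) • (1 + T)
  have hPc : ∀ c : fix e, P * ρ c = ρ c * P := fun c => by
    simp only [P, smul_mul_assoc, mul_smul_comm, add_mul, mul_add, one_mul, mul_one,
      commute_fix hT c]
  have hPP : P * P = P := by
    simp only [P, smul_mul_smul_comm, add_mul, mul_add, one_mul, mul_one, hTT]
    rw [show (1 : Module.End ℂ (Fin n → ℂ)) + T + (T + 1) = (2 : ℂ) • (1 + T) by rw [two_smul]; abel,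
      smul_smul]
    norm_num
  let W : Submodule ℂ (Fin n → ℂ) := LinearMap.range P
  have hW : ∀ c : fix e, ∀ v ∈ W, ρ c v ∈ W := by
    rintro c _ ⟨v, rfl⟩
    exact ⟨ρ c v, LinearMap.congr_fun (hPc c) v⟩
  have hfix : ∀ v ∈ W, P v = v := by
    rintro _ ⟨v, rfl⟩
    exact LinearMap.congr_fun hPP v
  let σ : Representation ℂ (fix e) W :=
    { toFun := fun c => (ρ (c : Y)).restrict (hW c)
      map_one' := by ext v; simp
      map_mul' := fun a b => by ext v; simp }
  refine ⟨σ.character, Char.isCharacter_of_rep σ, fun c => ?_⟩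
  have hmem : ∀ v, (ρ (c : Y) * P) v ∈ W := fun v => hW c _ ⟨v, rfl⟩
  have h1 : σ.character c = trace ℂ (Fin n → ℂ) (ρ (c : Y) * P) := by
    rw [← LinearMap.trace_restrict_eq_of_forall_mem W _ hmem]
    show trace ℂ W ((ρ (c : Y)).restrict (hW c)) = _
    congr 1
    ext ⟨v, hv⟩
    simp [hfix v hv]
  rw [h1, tw, Representation.character]
  simp only [P, mul_smul_comm, map_smul, mul_add, mul_one, map_add, smul_eq_mul]
  ring

include hT in
theorem isGeneralized_tw (hTT : T * T = 1) :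
    IsGeneralizedCharacter (fix e) (fun c : fix e => tw ρ T c) := by
  obtain ⟨ψ, hψ, h⟩ := exists_plus hT hTT
  refine ⟨_, _, Char.isCharacter_add hψ hψ,
    Char.isCharacter_res (fix e) (Char.isCharacter_of_rep ρ), funext fun c => ?_⟩
  simp only [Pi.sub_apply, Pi.add_apply]
  linear_combination h c

include hT in
/-- The twisted trace on the fixed points has norm one. -/
theorem norm_tw [Fintype Y] [Fintype (fix e)] (hodd : Odd (Nat.card Y)) (he : ∀ y, e (e y) = y)
    (hρ : ρ.IsIrreducible) (hTT : T * T = 1) :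
    classInner (fun c : fix e => tw ρ T c) (fun c : fix e => tw ρ T c) = 1 := by
  have hn : (n : ℂ) ≠ 0 := by
    have := (Char.isIrreducible_iff.1 hρ).1
    rw [Nat.cast_ne_zero]
    rintro rfl
    exact not_subsingleton (Fin 0 → ℂ) inferInstance
  have hconj : ∀ c : fix e, conj (tw ρ T c) = tw ρ T (c⁻¹ : fix e) := fun c => by
    obtain ⟨χ₁, χ₂, h₁, h₂, h⟩ := isGeneralized_tw hT hTT
    have h' := congrFun h c
    have h'' := congrFun h c⁻¹
    simp only [Pi.sub_apply] at h' h''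
    rw [h', h'', map_sub, ← Char.IsChar.inv_eq_conj h₁, ← Char.IsChar.inv_eq_conj h₂]
  have hg : ∀ x y, tw ρ T (x * y * (e x)⁻¹) * tw ρ T (x * y * (e x)⁻¹)⁻¹ =
      tw ρ T y * tw ρ T y⁻¹ := fun x y => by
    rw [tw_twist hT x y]
    congr 1
    conv_rhs => rw [← tw_twist hT (e x) y⁻¹, he]
    congr 1
    group
  have hsum := sum_twisted hodd e he (fun y => tw ρ T y * tw ρ T y⁻¹) hg
  have hS := sum_trace_mul ρ hρ T T
  rw [hTT, LinearMap.trace_one, Module.finrank_fin_fun] at hS
  have hS' : ∑ y : Y, tw ρ T y * tw ρ T y⁻¹ = (Nat.card Y : ℂ) :=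
    mul_left_cancel₀ hn (hS.trans (mul_comm _ _))
  rw [hS'] at hsum
  have hY : (Nat.card Y : ℂ) ≠ 0 := Nat.cast_ne_zero.2 Nat.card_pos.ne'
  have hC : (Nat.card (fix e) : ℂ) ≠ 0 := Nat.cast_ne_zero.2 Nat.card_pos.ne'
  have h2 : ∑ c : fix e, tw ρ T c * tw ρ T (c : Y)⁻¹ = (Nat.card (fix e) : ℂ) :=
    mul_left_cancel₀ hY (hsum.symm.trans (mul_comm _ _))
  rw [classInner]
  simp only [hconj, Subgroup.coe_inv]
  rw [h2, inv_mul_cancel₀ hC]

end Trace

end Cfsg.Agent.FourFixed
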